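import Cfsg.Agent.H541.RatB0.RowOne
import Cfsg.Agent.H320.Cyc.Main
import Cfsg.Agent.H129.TwE6Idx
import Cfsg.Agent.H900.Fra.Wey
import Cfsg.Agent.H378.TorFin

/-!
# S4884: `E₆(r)`, `q` of order 5, and `²E₆(r)`, `q` of order 10 (helper228)

The Sylow `q`-subgroups are cyclic, and the 2-torsion `A` of the torus has a centralizer of order prime to `q`
(no root is trivial on `A`, so `C(A) ≤ N(T)`).
-/

set_option autoImplicit false
set_option linter.unusedSectionVars false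

namespace Cfsg.Agent.H228.PB

open CoxeterSystem Cfsg Cfsg.Lie Cfsg.Lie.ChevalleyDatum
open Cfsg.Agent.ChevalleyStructure Cfsg.Agent.ChevalleyStructure.Elts Cfsg.Agent.ChevalleyStructure.CoxeterGeom
  Cfsg.Agent.ChevalleyStructure.CoxeterGeomTypes Cfsg.Agent.ChevalleyStructure.NPerm
open Cfsg.Agent.Tits.Roots Cfsg.Agent.Tits.Core Cfsg.Agent.Nodes Cfsg.Agent.Nodes.Reps Cfsg.Agent.Nodes.BNOf
  Cfsg.Agent.Nodes.RGDChev Cfsg.Agent.Nodes.Bruhat Cfsg.Agent.Nodes.NormalForm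
open Cfsg.Agent.KFacts.RgdField Cfsg.Agent.KFacts.RgdChevCoord Cfsg.Agent.BpExc.TorCent Cfsg.Agent.BpExc.TorChev
open Cfsg.Agent.BpExc.Tow Cfsg.Agent.BpExc.TowChev Cfsg.Agent.BpExc.Fr Cfsg.Agent.BpExc.LangFr Cfsg.Agent.BpExc
open Cfsg.Agent.H129.TorusChar Cfsg.Agent.H129.TwE6Fr Cfsg.Agent.H932.BR Cfsg.Agent.H541.RatB0 Cfsg.Agent.GpExc.Field Cfsg.Agent.ChevStructure.FieldMap Cfsg.Agent.BpExc.EmbInst

universe u

section Cent

variable {D : ChevalleyDatum} {l : ℕ} {M : CoxeterMatrix (Fin l)} (hp : IsType D l M) {K : Type u} [Field K]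
  {W : Type*} [Group W] (cs : CoxeterSystem M W)

/-- If no root is trivial on `Q ⊆ T`, then the `|W|`-th powers of the elements of `C(Q)` lie in `T`. -/
theorem cent_pow [Finite K] (r : ℕ) [Fact r.Prime] [CharP K r] {Q : Set ↥(D.group K)}
    (hQ : Q ⊆ (TT D K : Set ↥(D.group K)))
    (hU : ∀ x, IsRoot cs hp.isCartan x → ∃ q ∈ Q, cX hp q x ≠ 1) {g : ↥(D.group K)}
    (hg : g ∈ Subgroup.centralizer Q) : g ^ Nat.card W ∈ TT D K := by
  have := finite_W hp cs
  have R := rgd (K := K) hp cs r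
  have C := coords (K := K) hp cs r
  obtain ⟨u, hu, w, k, hk, hkc, v, hv, rfl⟩ := mem_centralizer R (S := Q) hQ
    (by rw [GG_top hp cs]; exact Subgroup.mem_top g) hg
  have h1 : RGD.Sup (fun x => XX D l K x ⊓ Subgroup.centralizer Q) (RGD.Pos cs hp.isCartan) ≤ ⊥ := by
    refine RGD.Sup_le fun x hx => ?_
    intro y hy
    rw [Subgroup.mem_bot]
    obtain ⟨q, hq, hq1⟩ := hU x hx.1
    obtain ⟨a, rfl⟩ := ((C.coord x hx.1).mem y).1 hy.1
    have h2 := Subgroup.mem_centralizer_iff.1 hy.2 q hq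
    have h3 := (C.coord x hx.1).act q (hQ hq) a
    rw [h2, mul_inv_cancel_right] at h3
    have h4 := (C.coord x hx.1).inj h3
    have h5 : a = 0 := by
      by_contra h6
      apply hq1
      rw [cX_root hp cs (hQ hq) hx.1]
      exact mul_right_cancel₀ h6 (by rw [one_mul]; exact h4.symm)
    rw [h5]
    exact (C.coord x hx.1).zero
  have hu1 : u = 1 := Subgroup.mem_bot.1 (h1 hu)
  have hv1 : v = 1 := Subgroup.mem_bot.1 (h1 hv)
  rw [hu1, hv1, one_mul, mul_one]
  have h2 : ∀ n : ℕ, Rp cs R.nsys (w ^ n) (k ^ n) := by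
    intro n
    induction n with
    | zero => rw [pow_zero, pow_zero]; exact rp_one
    | succ n ih => rw [pow_succ, pow_succ]; exact ih.mul hk
  have h3 := h2 (Nat.card W)
  rw [pow_card_eq_one'] at h3
  exact h3.mem_of_one

include hp in
/-- the exponent of the torus -/
theorem TT_pow [Fintype K] {t : ↥(D.group K)} (ht : t ∈ TT D K) : t ^ (Fintype.card K - 1) = 1 := by
  apply cX_inj hp (pow_mem ht _) (one_mem _)
  intro i
  rw [cX_pow hp ht, cX_one]
  exact FiniteField.pow_card_sub_one_eq_one _ ((isMC_cX hp ht).ne_zero _)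

end Cent

/-- the order of a group all of whose elements have order prime to `q` -/
theorem not_dvd_of_pow {G : Type*} [Group G] [Finite G] {q : ℕ} [hq : Fact q.Prime] {n : ℕ} (hn : ¬ q ∣ n)
    (h : ∀ g : G, g ^ n = 1) : ¬ q ∣ Nat.card G := by
  intro h1
  obtain ⟨g, hg⟩ := exists_prime_orderOf_dvd_card' (G := G) q h1
  exact hn (hg ▸ orderOf_dvd_of_pow_eq_one (h g))

theorem prime_ge {q m r : ℕ} [hq : Fact q.Prime] (hm : orderOf (r : ZMod q) = m) (h5 : m = 5 ∨ m = 10) :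
    11 ≤ q ∧ ¬ q ∣ r := by
  have h0 : (r : ZMod q) ≠ 0 := by
    intro h0
    rw [h0] at hm
    have h1 : orderOf (0 : ZMod q) = 0 := by
      rw [orderOf_eq_zero_iff']
      intro n hn h1
      rw [zero_pow hn.ne'] at h1
      exact zero_ne_one h1
    rw [h1] at hm
    omega
  have h1 : m ∣ q - 1 := by
    rw [← hm]
    exact orderOf_dvd_of_pow_eq_one (ZMod.pow_card_sub_one_eq_one h0)
  have h2 : 5 ∣ q - 1 := (show 5 ∣ m by rcases h5 with rfl | rfl <;> norm_num).trans h1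
  refine ⟨?_, fun h3 => h0 ((ZMod.natCast_eq_zero_iff r q).2 h3)⟩
  have h3 := hq.out.two_le
  obtain ⟨k, hk⟩ := h2
  by_contra hcon
  have h4 : q = 5 * k + 1 := by omega
  have h5' : k < 2 := by omega
  interval_cases k
  · omega
  · rw [h4] at hq
    exact absurd hq.out (by norm_num)


/-! ### `E₆` -/

/-- every root is odd on some simple coroot -/
def chkE : Bool := allL 72 fun r => anyL 6 fun i => decide (chevE6.cartan i r % 2 ≠ 0)

theorem chkE_true : chkE = true := by decide +kernel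

/-- every root is odd on some coroot sum of a graph orbit -/
def chkT : Bool := allL 72 fun r => decide ((chevE6.cartan 0 r + chevE6.cartan 5 r) % 2 ≠ 0) ||
  decide ((chevE6.cartan 2 r + chevE6.cartan 4 r) % 2 ≠ 0) || decide (chevE6.cartan 1 r % 2 ≠ 0) ||
  decide (chevE6.cartan 3 r % 2 ≠ 0)

theorem chkT_true : chkT = true := by decide +kernel

theorem hE : IsType chevE6 6 CoxeterMatrix.E₆ := by simp

theorem neg_zpow_ne {K : Type*} [Field K] (h : (2 : K) ≠ 0) {m : ℤ} (hm : m % 2 ≠ 0) : (-1 : K) ^ m ≠ 1 := by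
  have h1 : Odd m := Int.odd_iff.2 (by omega)
  rw [h1.neg_one_zpow]
  intro h2
  apply h
  linear_combination -h2

theorem two_ne {K : Type*} [Field K] [Fintype K] (h : Odd (Fintype.card K)) : (2 : K) ≠ 0 := by
  intro h0
  obtain ⟨p, hp⟩ := CharP.exists K
  have h1 : p ∣ 2 := (CharP.cast_eq_zero_iff K p 2).1 (by exact_mod_cast h0)
  have hpp := CharP.char_is_prime K p
  have h2 : p = 2 := (Nat.prime_dvd_prime_iff_eq hpp Nat.prime_two).1 h1
  subst h2
  obtain ⟨n, -, hn⟩ := FiniteField.card K 2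
  rw [hn] at h
  exact (Nat.not_even_iff_odd.2 h) ((Nat.even_pow.2 ⟨even_two, n.ne_zero⟩))

theorem isPGroup_two {G : Type*} [Group G] {A : Subgroup G} (h : ∀ x ∈ A, x ^ 2 = 1) : IsPGroup 2 ↥A := by
  intro x
  refine ⟨1, ?_⟩
  apply Subtype.ext
  rw [pow_one]
  exact h x.1 x.2

theorem prod_not_dvd {q a : ℕ} [hq : Fact q.Prime] (h11 : 11 ≤ q) (ha : ¬ q ∣ a) : ¬ q ∣ 51840 * a := by
  intro h
  rcases hq.out.dvd_mul.1 h with h1 | h1
  · have h2 : q ∣ 2 ^ 7 * (3 ^ 4 * 5) := by norm_num; exact h1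
    rcases hq.out.dvd_mul.1 h2 with h3 | h3
    · have := Nat.le_of_dvd (by norm_num) (hq.out.dvd_of_dvd_pow h3)
      omega
    · rcases hq.out.dvd_mul.1 h3 with h4 | h4
      · have := Nat.le_of_dvd (by norm_num) (hq.out.dvd_of_dvd_pow h4)
        omega
      · have := Nat.le_of_dvd (by norm_num) h4
        omega
  · exact ha h1

theorem not_dvd_pow_sub {q r n : ℕ} [hq : Fact q.Prime] (hr : 1 ≤ r) (h : ¬ orderOf (r : ZMod q) ∣ n) :
    ¬ q ∣ r ^ n - 1 := by
  intro h1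
  apply h
  apply orderOf_dvd_of_pow_eq_one
  have h2 := (ZMod.natCast_eq_zero_iff _ _).2 h1
  rw [Nat.cast_sub (Nat.one_le_pow _ _ hr)] at h2
  push_cast at h2
  exact sub_eq_zero.1 h2

theorem cyc_E6 {F : Type} [Field F] [Fintype F] {q : ℕ} [hq : Fact q.Prime] (hF : Odd (Fintype.card F))
    (hd : orderOf ((Fintype.card F : ℕ) : ZMod q) = 5) :
    (∀ P : Sylow q ↥(chevE6.group F), IsCyclic ↥(P : Subgroup ↥(chevE6.group F))) ∧
      ∃ A : Subgroup ↥(chevE6.group F), IsPGroup 2 ↥A ∧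
        ¬ q ∣ Nat.card ↥(Subgroup.centralizer (A : Set ↥(chevE6.group F))) := by
  obtain ⟨h11, hqF⟩ := prime_ge hd (Or.inl rfl)
  obtain ⟨t, ht⟩ := CharP.exists F
  have htp := CharP.char_is_prime F t
  have : Fact t.Prime := ⟨htp⟩
  have hqt : q ≠ t := by
    rintro rfl
    obtain ⟨n, -, hn⟩ := FiniteField.card F q
    exact hqF (hn ▸ dvd_pow_self q n.ne_zero)
  have h2 := two_ne hF
  have hn1 : (-1 : F) ≠ 0 := neg_ne_zero.2 one_ne_zero
  have cs := CoxeterMatrix.E₆.toCoxeterSystem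
  refine ⟨fun P => ?_, QQ hE F 2, isPGroup_two fun x hx => hx.2, ?_⟩
  · by_contra hP
    have h1 := H320.Cyc.ord_E6 (t := t) (MulEquiv.refl _) hq.out (by omega) hqt P hP
    rw [hd] at h1
    exact absurd h1 (by decide)
  · have hc : ∀ g : ↥(Subgroup.centralizer ((QQ hE F 2 : Subgroup ↥(chevE6.group F)) : Set ↥(chevE6.group F))),
        g ^ (51840 * (Fintype.card F - 1)) = 1 := by
      intro g
      apply Subtype.ext
      rw [Subgroup.coe_pow, Subgroup.coe_one, pow_mul, ← H900.Fra.card_M_E6 hE]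
      refine TT_pow hE (cent_pow hE cs t (fun x hx => hx.1) (fun x hx => ?_) g.2)
      obtain ⟨s, hs, rfl⟩ := (isRoot_iff hE cs x).1 hx
      obtain ⟨i, hi, h3⟩ := anyL_spec (allL_spec chkE_true s hs)
      refine ⟨hc hE ⟨i, hi⟩ (-1 : F), hc_mem_QQ hE hn1 (by norm_num) _, ?_⟩
      rw [cX_hc hE _ hn1, pairing_vec hE _ hs]
      exact neg_zpow_ne h2 (of_decide_eq_true h3)
    refine not_dvd_of_pow (prod_not_dvd h11 ?_) hc
    have h3 := not_dvd_pow_sub (q := q) (r := Fintype.card F) (n := 1) Fintype.card_pos (by rw [hd]; norm_num)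
    rwa [pow_one] at h3

/-! ### `²E₆` -/

/-- the graph permutation of the nodes -/
def rh : Fin 6 → Fin 6 := ![5, 1, 4, 3, 2, 0]

theorem pairing_rh : ∀ j i : Fin 6, pairing (cartanOf chevE6 6) (rh j) (sr i) = pairing (cartanOf chevE6 6) j (sr (rh i)) := by
  decide +kernel

theorem rh_rh : ∀ j : Fin 6, rh (rh j) = j := by decide

section Tau

variable {k : Type u} [Field k] [IsAlgClosed k] {p e : ℕ} [Fact p.Prime] [CharP k p]

theorem tau_hc (hq : Odd (p ^ e)) (j : Fin 6) : tau k p e (hc hE j (-1 : k)) = hc hE (rh j) (-1 : k) := by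
  have hn1 : (-1 : k) ≠ 0 := neg_ne_zero.2 one_ne_zero
  have cs := CoxeterMatrix.E₆.toCoxeterSystem
  have h1 : tau k p e (hc hE j (-1 : k)) ∈ TT chevE6 k := ((fr_tau cs).tor _).2 (hc_mem hE j hn1)
  refine cX_inj hE h1 (hc_mem hE _ hn1) fun i => ?_
  have h2 : (sr i : Fin 6 → ℤ) = flip6 (sr (rh i)) := by
    funext m
    rw [flip_sr (rh i) m]
    show _ = (sr (rh (rh i)) : Fin 6 → ℤ) m
    rw [rh_rh]
  have h3 := cX_sigma hE cs isFrob_tau (fr_tau (k := k) (p := p) (e := e) cs) (hc_mem hE j hn1) (sr (rh i))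
  rw [h2, h3, cX_hc hE j hn1, ← h2, cX_hc hE _ hn1, pairing_rh, ← zpow_natCast, ← zpow_mul, mul_comm, zpow_mul,
    zpow_natCast, hq.neg_one_pow]

end Tau

theorem cyc_2E6 {F : Type} [Field F] [Fintype F] {r : ℕ} (hr : IsPrimePow r) (hF2 : Fintype.card F = r ^ 2)
    {q : ℕ} [hq : Fact q.Prime] (hF : Odd r) (hd : orderOf (r : ZMod q) = 10) :
    (∀ P : Sylow q ↥(twistedE6 F r), IsCyclic ↥(P : Subgroup ↥(twistedE6 F r))) ∧
      ∃ A : Subgroup ↥(twistedE6 F r), IsPGroup 2 ↥A ∧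
        ¬ q ∣ Nat.card ↥(Subgroup.centralizer (A : Set ↥(twistedE6 F r))) := by
  obtain ⟨h11, hqr⟩ := prime_ge hd (Or.inr rfl)
  obtain ⟨k, _, _, f, t, htp, _, e', hk, -, he0', hcF⟩ := H378.TorFin.exists_closure F
  have hFt : CharP F t := (RingHom.charP_iff f f.injective t).2 inferInstance
  obtain ⟨e, he0, hqe⟩ : ∃ e, 0 < e ∧ r = t ^ e := by
    obtain ⟨r', e, hr', he, rfl⟩ := hr
    have h1 : r' ∣ t ^ e' := by
      rw [← hcF, Nat.card_eq_fintype_card, hF2]
      exact (dvd_pow_self r' he.ne').trans (dvd_pow_self _ two_ne_zero)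
    have h2 : r' = t := (Nat.prime_dvd_prime_iff_eq hr'.nat_prime htp.out).1 (hr'.nat_prime.dvd_of_dvd_pow h1)
    exact ⟨e, he, by rw [h2]⟩
  have hqt : q ≠ t := by
    rintro rfl
    exact hqr (hqe ▸ dvd_pow_self q he0.ne')
  have h2 : (2 : F) ≠ 0 := two_ne (by rw [hF2]; exact hF.pow)
  have hn1 : (-1 : F) ≠ 0 := neg_ne_zero.2 one_ne_zero
  have cs := CoxeterMatrix.E₆.toCoxeterSystem
  -- the inclusion
  set ι : ↥(twistedE6 F r) →* ↥(chevE6.group F) := Subgroup.inclusion (tw_le hr hF2) with hι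
  have hιi : Function.Injective ι := Subgroup.inclusion_injective _
  -- the torus elements
  have hmem : ∀ a : ↥(chevE6.group F), a ^ 2 = 1 → tau k t e (emb hE.inList f a) = emb hE.inList f a → a ∈ ι.range := by
    intro a ha hτ
    have h3 := tau_pow f hqe hr hF2 hτ
    have h4 : emb hE.inList f a ^ 2 = 1 := by rw [← map_pow, ha, map_one]
    have h5 : emb hE.inList f a ^ Nat.gcd 3 (r + 1) = emb hE.inList f a := by
      rcases (Nat.dvd_prime Nat.prime_three).1 (Nat.gcd_dvd_left 3 (r + 1)) with h | h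
      · rw [h, pow_one]
      · rw [h, pow_succ, h4, one_mul]
    rw [h5] at h3
    obtain ⟨x, hx⟩ := h3
    exact ⟨x, emb_injective hE.inList f hx⟩
  have hor : Odd (t ^ e) := hqe ▸ hF
  have hτ : ∀ j, tau k t e (emb hE.inList f (hc hE j (-1 : F))) = emb hE.inList f (hc hE (rh j) (-1 : F)) := by
    intro j
    rw [emb_hc, emb_hc, map_neg, map_one]
    exact tau_hc hor j
  have hsq : ∀ j, hc hE j (-1 : F) ^ 2 = 1 := fun j => (hc_mem_QQ hE hn1 (by norm_num) j).2
  have hTT : ∀ j, hc hE j (-1 : F) ∈ TT chevE6 F := fun j => hc_mem hE j hn1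
  have hcm : ∀ i j, hc hE i (-1 : F) * hc hE j (-1 : F) = hc hE j (-1 : F) * hc hE i (-1 : F) :=
    fun i j => H541.RatB0.TT_comm hE (hTT i) (hTT j)
  let Q : Set ↥(chevE6.group F) := {a | a ∈ TT chevE6 F ∧ a ^ 2 = 1 ∧ a ∈ ι.range}
  have h1Q : ∀ j, rh j = j → hc hE j (-1 : F) ∈ Q := fun j hj =>
    ⟨hTT j, hsq j, hmem _ (hsq j) (by rw [hτ, hj])⟩
  have h2Q : ∀ j, hc hE j (-1 : F) * hc hE (rh j) (-1 : F) ∈ Q := by
    intro j
    have h3 : (hc hE j (-1 : F) * hc hE (rh j) (-1 : F)) ^ 2 = 1 := by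
      rw [(show Commute _ _ from hcm j (rh j)).mul_pow, hsq, hsq, one_mul]
    refine ⟨mul_mem (hTT _) (hTT _), h3, hmem _ h3 ?_⟩
    rw [map_mul, map_mul, hτ, hτ, rh_rh, ← map_mul, hcm, map_mul]
  refine ⟨fun P => ?_, (QQ hE F 2).comap ι, isPGroup_two fun x hx => ?_, ?_⟩
  · by_contra hP
    have h1 := H320.Cyc.ord_twE6 (t := t) hr hF2 (MulEquiv.refl _) hq.out (by omega) hqt P hP
    rw [hd] at h1
    exact absurd h1 (by decide)
  · apply hιi
    rw [map_pow, map_one]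
    exact hx.2
  · have hc' : ∀ g : ↥(Subgroup.centralizer (((QQ hE F 2).comap ι : Subgroup ↥(twistedE6 F r)) : Set ↥(twistedE6 F r))),
        g ^ (51840 * (Fintype.card F - 1)) = 1 := by
      intro g
      apply Subtype.ext
      apply hιi
      rw [Subgroup.coe_pow, Subgroup.coe_one, map_one, map_pow, pow_mul, ← H900.Fra.card_M_E6 hE]
      refine TT_pow hE (cent_pow hE cs t (Q := Q) (fun x hx => hx.1) (fun x hx => ?_) ?_)
      · obtain ⟨s, hs, rfl⟩ := (isRoot_iff hE cs x).1 hx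
        have h3 := allL_spec chkT_true s hs
        rw [Bool.or_eq_true, Bool.or_eq_true, Bool.or_eq_true, decide_eq_true_eq, decide_eq_true_eq,
          decide_eq_true_eq, decide_eq_true_eq] at h3
        rcases h3 with ((h3 | h3) | h3) | h3
        · refine ⟨_, h2Q 0, ?_⟩
          rw [cX_mul hE (hTT _) (hTT _), cX_hc hE _ hn1, cX_hc hE _ hn1, pairing_vec hE _ hs, pairing_vec hE _ hs,
            ← zpow_add₀ hn1]
          exact neg_zpow_ne h2 h3
        · refine ⟨_, h2Q 2, ?_⟩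
          rw [cX_mul hE (hTT _) (hTT _), cX_hc hE _ hn1, cX_hc hE _ hn1, pairing_vec hE _ hs, pairing_vec hE _ hs,
            ← zpow_add₀ hn1]
          exact neg_zpow_ne h2 h3
        · refine ⟨_, h1Q 1 rfl, ?_⟩
          rw [cX_hc hE _ hn1, pairing_vec hE _ hs]
          exact neg_zpow_ne h2 h3
        · refine ⟨_, h1Q 3 rfl, ?_⟩
          rw [cX_hc hE _ hn1, pairing_vec hE _ hs]
          exact neg_zpow_ne h2 h3
      · rw [Subgroup.mem_centralizer_iff]
        rintro a ⟨ha1, ha2, ⟨x, rfl⟩⟩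
        have h4 := Subgroup.mem_centralizer_iff.1 g.2 x ⟨ha1, ha2⟩
        rw [← map_mul, ← map_mul, h4]
    refine not_dvd_of_pow (prod_not_dvd h11 ?_) hc'
    rw [hF2]
    exact not_dvd_pow_sub (q := q) (r := r) (n := 2) hr.pos (by rw [hd]; norm_num)

end Cfsg.Agent.H228.PB
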